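import Groth.Agent.Refuted.K728.Tower
import Groth.Agent.Refuted.K775.PRank
import Mathlib.FieldTheory.IsAlgClosed.Basic

/-!
# The residue field of the tower `K(k^sep)(T^(1/p^∞))` is that of `Ω`
-/

set_option autoImplicit false

namespace Groth.Agent.Refuted.K728.Tower

open IntermediateField Polynomial Groth.Agent.Refuted.K775.PRank

variable {k K Ω : Type*} [Field k] [Field K] [Field Ω] [Algebra k K] [Algebra K Ω] [Algebra k Ω] [IsScalarTower k K Ω]
  (V : ValuationSubring Ω)

/-- every element of `V` is congruent to an element algebraic over `k` -/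
theorem exists_const [IsAlgClosed Ω] {A : Type*} [CommRing A] (g : A →+* Ω)
    (hAk : ∀ a : A, ∃ c : k, V.valuation (g a - algebraMap k Ω c) < 1)
    {x : Ω} (hxV : x ∈ V) (hx : ∃ P : A[X], P.Monic ∧ P.eval₂ g x = 0) :
    ∃ c : Ω, IsIntegral k c ∧ V.valuation (x - c) < 1 := by
  classical
  obtain ⟨P, hP, hP0⟩ := hx
  choose c hc using hAk
  set n := P.natDegree with hn
  let f : k[X] := X ^ n + ∑ i ∈ Finset.range n, C (c (P.coeff i)) * X ^ i
  have hf : f.Monic := by
    refine monic_X_pow_add ?_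
    refine (degree_sum_le _ _).trans_lt ?_
    rw [Finset.sup_lt_iff (WithBot.bot_lt_coe _)]
    intro i hi
    exact (degree_C_mul_X_pow_le i _).trans_lt (WithBot.coe_lt_coe.2 (Finset.mem_range.1 hi))
  have hx1 : V.valuation x ≤ 1 := (V.valuation_le_one_iff x).2 hxV
  have h1 : V.valuation (aeval x f) < 1 := by
    have e : aeval x f = ∑ i ∈ Finset.range n, (algebraMap k Ω (c (P.coeff i)) - g (P.coeff i)) * x ^ i := by
      have e1 : P.eval₂ g x = (∑ i ∈ Finset.range n, g (P.coeff i) * x ^ i) + x ^ n := by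
        rw [eval₂_eq_sum_range, Finset.sum_range_succ, ← hn, hn, hP.coeff_natDegree, map_one, one_mul]
      rw [e1] at hP0
      have e2 : aeval x f = x ^ n + ∑ i ∈ Finset.range n, algebraMap k Ω (c (P.coeff i)) * x ^ i := by
        simp only [f, map_add, map_pow, aeval_X, map_sum, map_mul, aeval_C]
      rw [e2, eq_neg_of_add_eq_zero_right hP0]
      simp only [sub_mul, Finset.sum_sub_distrib]
      ring
    rw [e]
    refine Valuation.map_sum_lt _ one_ne_zero fun i _ => ?_
    rw [map_mul, map_pow, ← neg_sub, Valuation.map_neg]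
    exact (mul_le_mul' le_rfl (pow_le_one₀ zero_le hx1)).trans_lt ((mul_one _).trans_lt (hc _))
  have hsplit : (f.map (algebraMap k Ω)).Splits := IsAlgClosed.splits _
  by_contra hcon
  push Not at hcon
  have h2 : aeval x f = ((f.map (algebraMap k Ω)).roots.map fun r => x - r).prod := by
    have h3 := hsplit.eq_prod_roots
    rw [(hf.map _).leadingCoeff, C_1, one_mul] at h3
    have h4 : aeval x f = (f.map (algebraMap k Ω)).eval x := by rw [eval_map_algebraMap]
    rw [h4]
    conv_lhs => rw [h3]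
    rw [eval_multiset_prod, Multiset.map_map]
    simp
  have h5 : 1 ≤ V.valuation (aeval x f) := by
    rw [h2, map_multiset_prod, Multiset.map_map]
    refine Multiset.one_le_prod_of_one_le ?_
    intro y hy
    obtain ⟨r, hr, rfl⟩ := Multiset.mem_map.1 hy
    refine hcon r ?_
    refine ⟨f, hf, ?_⟩
    have := (mem_roots'.1 hr).2
    rwa [IsRoot.def, eval_map] at this
  exact absurd h1 (not_lt.2 h5)

variable (p : ℕ) [hp : Fact p.Prime] [CharP Ω p] {t : k} {τ T : ℕ → Ω}

variable (k) in
/-- a `p`-power of an element algebraic over `k` is separable over `k` -/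
theorem exists_pow_mem {c : Ω} (hc : IsIntegral k c) : ∃ m : ℕ, c ^ p ^ m ∈ separableClosure k Ω := by
  haveI : ExpChar k p := expChar_of p (algebraMap k Ω)
  obtain ⟨g, hg, m, hm⟩ := (minpoly.irreducible hc).hasSeparableContraction p
  refine ⟨m, mem_separableClosure_iff.2 ?_⟩
  refine hg.of_dvd (minpoly.dvd _ _ ?_)
  have h := minpoly.aeval k c
  rw [← hm, expand_aeval] at h
  exact h

theorem pow_inj {a b : Ω} (m : ℕ) (h : a ^ p ^ m = b ^ p ^ m) : a = b := by
  haveI : ExpChar Ω p := ExpChar.prime hp.out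
  exact iterateFrobenius_inj Ω p m h

theorem exists_mem_N [IsAlgClosed Ω] (hk : ∀ c : k, algebraMap k Ω c ∈ V) (ht : ∀ c : k, c ^ p ≠ t)
    (hgen : PRk p k)
    (h0 : τ 0 = algebraMap k Ω t) (hτ : ∀ m, τ (m + 1) ^ p = τ m) (hT : ∀ m, V.valuation (T m - τ m) < 1) (m : ℕ) :
    ∀ c : Ω, c ^ p ^ m ∈ separableClosure k Ω → ∃ a ∈ N k K T, V.valuation (c - a) < 1 := by
  have hτi : ∀ m, IsIntegral k (τ m) := tau_isIntegral p h0 hτ
  have hτ1 : ∀ m, V.valuation (τ m) ≤ 1 := fun m => (V.valuation_le_one_iff _).2 (mem_of_isIntegral V hk (hτi m))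
  have hT1 : ∀ m, V.valuation (T m) ≤ 1 := by
    intro m
    have e : T m = (T m - τ m) + τ m := by ring
    rw [e]
    exact (V.valuation.map_add _ _).trans (max_le (hT m).le (hτ1 m))
  induction m with
  | zero =>
    intro c hc
    rw [pow_zero, pow_one] at hc
    refine ⟨c, E_le_N 0 (sep_mem_E hc), ?_⟩
    rw [sub_self, map_zero]
    exact zero_lt_one
  | succ m ih =>
    intro c hc
    set S := separableClosure k Ω with hS
    have hSt : ∀ b : S, b ^ p ≠ algebraMap k S t := by
      intro b hb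
      apply tau_notMem p ht h0 hτ
      have : τ 1 = (b : Ω) := by
        refine pow_inj p 1 ?_
        rw [pow_one, hτ 0, h0]
        have := congrArg (algebraMap S Ω) hb
        rw [map_pow] at this
        exact this.symm
      rw [this]
      exact b.2
    haveI : CharP S p := (algebraMap S Ω).charP (algebraMap S Ω).injective p
    obtain ⟨s, hs⟩ := exists_sum_of_algebraic hp.out hgen (algebraMap k S t) hSt ⟨c ^ p ^ (m + 1), hc⟩
    have hs' : c ^ p ^ (m + 1) = ∑ i ∈ Finset.range p, (s i : Ω) ^ p * (algebraMap k Ω t) ^ i := by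
      have := congrArg (algebraMap S Ω) hs
      rw [map_sum] at this
      simp only [map_mul, map_pow] at this
      exact this
    have hr : ∀ i, ∃ r : Ω, r ^ p ^ m = (s i : Ω) := fun i =>
      IsAlgClosed.exists_pow_nat_eq (s i : Ω) (pow_pos hp.out.pos m)
    choose r hr using hr
    have hc' : c = ∑ i ∈ Finset.range p, r i * τ (m + 1) ^ i := by
      haveI : ExpChar Ω p := ExpChar.prime hp.out
      refine pow_inj p (m + 1) ?_
      rw [hs', sum_pow_char_pow]
      refine Finset.sum_congr rfl fun i _ => ?_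
      have h1 := tower_pow p hτ 0 (m + 1)
      rw [zero_add] at h1
      rw [mul_pow, ← pow_mul, mul_comm i, pow_mul, h1, h0, pow_succ, pow_mul, hr]
    have ha := fun i => ih (r i) (by rw [hr]; exact (s i).2)
    choose a haN ha using ha
    refine ⟨∑ i ∈ Finset.range p, a i * T (m + 1) ^ i, sum_mem fun i _ => mul_mem (haN i)
      (pow_mem (E_le_N (m + 1) (mem_E _)) i), ?_⟩
    rw [hc', ← Finset.sum_sub_distrib]
    refine Valuation.map_sum_lt _ one_ne_zero fun i _ => ?_
    have e : r i * τ (m + 1) ^ i - a i * T (m + 1) ^ i = r i * -(T (m + 1) ^ i - τ (m + 1) ^ i) + (r i - a i) * T (m + 1) ^ i := by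
      ring
    rw [e]
    refine Valuation.map_add_lt _ ?_ ?_
    · rw [map_mul, Valuation.map_neg]
      have hri : V.valuation (r i) ≤ 1 := by
        refine (V.valuation_le_one_iff _).2 (mem_of_isIntegral V hk ?_)
        refine IsIntegral.of_pow (pow_pos hp.out.pos m) ?_
        rw [hr]
        exact (mem_separableClosure_iff.1 (s i).2).isIntegral
      exact (mul_le_mul' hri le_rfl).trans_lt ((one_mul _).trans_lt (val_pow_sub_lt V (hT1 _) (hτ1 _) (hT _) i))
    · rw [map_mul, map_pow]
      exact (mul_le_mul' le_rfl (pow_le_one₀ zero_le (hT1 _))).trans_lt ((mul_one _).trans_lt (ha i))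

variable (K) in
/-- **`N` has the residue field of `Ω`** -/
theorem N_full [IsAlgClosed Ω] {A : Type*} [CommRing A] (g : A →+* Ω)
    (hAk : ∀ a : A, ∃ c : k, V.valuation (g a - algebraMap k Ω c) < 1) (hk : ∀ c : k, algebraMap k Ω c ∈ V)
    (hint : ∀ x ∈ V, ∃ P : A[X], P.Monic ∧ P.eval₂ g x = 0)
    (ht : ∀ c : k, c ^ p ≠ t) (hgen : PRk p k)
    (h0 : τ 0 = algebraMap k Ω t) (hτ : ∀ m, τ (m + 1) ^ p = τ m) (hT : ∀ m, V.valuation (T m - τ m) < 1)
    (x : Ω) (hx : x ∈ V) : ∃ a ∈ N k K T, V.valuation (x - a) < 1 := by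
  obtain ⟨c, hc, hxc⟩ := exists_const V g hAk hx (hint x hx)
  obtain ⟨m, hm⟩ := exists_pow_mem k p hc
  obtain ⟨a, ha, hca⟩ := exists_mem_N (K := K) V p hk ht hgen h0 hτ hT m c hm
  refine ⟨a, ha, ?_⟩
  have e : x - a = (x - c) + (c - a) := by ring
  rw [e]
  exact Valuation.map_add_lt _ hxc hca

end Groth.Agent.Refuted.K728.Tower
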