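import Mathlib.FieldTheory.IntermediateField.Adjoin.Basic
import Mathlib.RingTheory.Valuation.ValuationSubring
import Mathlib.Algebra.CharP.Lemmas

/-!
# A descent for towers of `p`-th roots in a discretely valued field

`E₀ ≤ M` are subfields of `Ω`, of characteristic `p`, with the same discrete value group, `E₀` "complete with residue
field of `p`-rank one" (the two consequences which are used are hypotheses).  If `M` contains a sequence `T m` with
`T (m + 1) ^ p = T m`, `T 0 ∈ E₀`, `T 1 ∉ E₀`, then the residue of `T 1` is not a residue of `E₀`.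
-/

set_option autoImplicit false

namespace Groth.Agent.Refuted.K728.Descent

open IntermediateField

variable {K Ω : Type*} [Field K] [Field Ω] [Algebra K Ω] (p : ℕ) [hp : Fact p.Prime] [CharP Ω p]

/-- The elements whose `p`-th power lies in `E`. -/
def root (E : IntermediateField K Ω) : IntermediateField K Ω where
  carrier := {x | x ^ p ∈ E}
  mul_mem' {a b} ha hb := by
    simp only [Set.mem_setOf_eq, mul_pow] at *
    exact mul_mem ha hb
  one_mem' := by simp
  add_mem' {a b} ha hb := by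
    simp only [Set.mem_setOf_eq, add_pow_char] at *
    exact add_mem ha hb
  zero_mem' := by simp [hp.out.ne_zero]
  algebraMap_mem' r := pow_mem (E.algebraMap_mem r) p
  inv_mem' x hx := by
    simp only [Set.mem_setOf_eq, inv_pow] at *
    exact inv_mem hx

theorem mem_root {E : IntermediateField K Ω} {x : Ω} : x ∈ root p E ↔ x ^ p ∈ E := Iff.rfl

/-- The field `E₀(T m)`. -/
def lev (E₀ : IntermediateField K Ω) (T : ℕ → Ω) (m : ℕ) : IntermediateField K Ω := E₀ ⊔ K⟮T m⟯

section

variable {E₀ M : IntermediateField K Ω} {T : ℕ → Ω}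

theorem le_lev (m : ℕ) : E₀ ≤ lev E₀ T m := le_sup_left

theorem mem_lev (m : ℕ) : T m ∈ lev E₀ T m :=
  (le_sup_right : K⟮T m⟯ ≤ lev E₀ T m) (mem_adjoin_simple_self K (T m))

theorem lev_succ_le_root (hT : ∀ m, T (m + 1) ^ p = T m) (m : ℕ) : lev E₀ T (m + 1) ≤ root p (lev E₀ T m) := by
  refine sup_le (fun x hx => ?_) ?_
  · exact pow_mem (le_lev m hx) p
  · rw [adjoin_simple_le_iff, mem_root, hT]
    exact mem_lev m

theorem lev_le_lev_succ (hT : ∀ m, T (m + 1) ^ p = T m) (m : ℕ) : lev E₀ T m ≤ lev E₀ T (m + 1) := by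
  refine sup_le (le_lev _) ?_
  rw [adjoin_simple_le_iff, ← hT m]
  exact pow_mem (mem_lev (m + 1)) p

theorem lev_zero (h : T 0 ∈ E₀) : lev E₀ T 0 = E₀ := by
  refine le_antisymm (sup_le le_rfl ?_) (le_lev 0)
  rw [adjoin_simple_le_iff]
  exact h

theorem lev_le (hE : E₀ ≤ M) (hTM : ∀ m, T m ∈ M) (m : ℕ) : lev E₀ T m ≤ M := by
  refine sup_le hE ?_
  rw [adjoin_simple_le_iff]
  exact hTM m

theorem notMem_lev (hT : ∀ m, T (m + 1) ^ p = T m) (h0 : T 0 ∈ E₀) (h1 : T 1 ∉ E₀) (m : ℕ) :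
    T (m + 1) ∉ lev E₀ T m := by
  induction m with
  | zero => rwa [lev_zero h0]
  | succ m ih =>
    intro h
    have h2 := lev_succ_le_root p hT m h
    rw [mem_root, hT] at h2
    exact ih h2

theorem isIntegral_T (hT : ∀ m, T (m + 1) ^ p = T m) [FiniteDimensional K E₀] (h0 : T 0 ∈ E₀) (m : ℕ) :
    IsIntegral K (T m) := by
  induction m with
  | zero =>
    have : IsIntegral K (⟨T 0, h0⟩ : E₀) := IsIntegral.of_finite K _
    exact this.map E₀.val
  | succ m ih =>
    refine IsIntegral.of_pow hp.out.pos ?_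
    rw [hT]
    exact ih

theorem finiteDimensional_lev (hT : ∀ m, T (m + 1) ^ p = T m) [FiniteDimensional K E₀] (h0 : T 0 ∈ E₀) (m : ℕ) :
    FiniteDimensional K (lev E₀ T m) := by
  have : FiniteDimensional K K⟮T m⟯ := adjoin.finiteDimensional (isIntegral_T p hT h0 m)
  exact IntermediateField.finiteDimensional_sup E₀ K⟮T m⟯

end

/-- `x ↦ v x ^ p` detects `< 1`. -/
theorem lt_one_of_pow_lt_one {Γ : Type*} [LinearOrderedCommGroupWithZero Γ] {x : Γ} {n : ℕ} (h : x ^ n < 1) : x < 1 := by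
  by_contra h1
  rw [not_lt] at h1
  exact absurd h (not_lt.2 (one_le_pow₀ h1))

/-- **The descent.** -/
theorem main (V : ValuationSubring Ω) {E₀ M : IntermediateField K Ω} (hEM : E₀ ≤ M) [FiniteDimensional K E₀]
    (w : Ω) (hw0 : w ≠ 0) (hw1 : V.valuation w < 1) (hwE : w ∈ E₀)
    (hM : ∀ x ∈ M, x ≠ 0 → ∃ n : ℤ, V.valuation x = V.valuation w ^ n)
    (hbest : ∀ E : IntermediateField K Ω, E₀ ≤ E → E ≤ M → FiniteDimensional K E → ∀ x ∈ M, x ∉ E →
      ∃ a ∈ E, ∀ b ∈ E, V.valuation (x - a) ≤ V.valuation (x - b))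
    (hprk : ∀ E : IntermediateField K Ω, E₀ ≤ E → E ≤ M → FiniteDimensional K E → ∀ b ∈ E, ∀ s ∈ E,
      V.valuation b ≤ 1 → V.valuation s ≤ 1 → (∀ c ∈ E, V.valuation c ≤ 1 → ¬ V.valuation (b - c ^ p) < 1) →
      ∃ c : ℕ → Ω, (∀ i, c i ∈ E) ∧ V.valuation (s - ∑ i ∈ Finset.range p, c i ^ p * b ^ i) < 1)
    (T : ℕ → Ω) (hT : ∀ m, T (m + 1) ^ p = T m) (hT0 : T 0 ∈ E₀) (hTM : ∀ m, T m ∈ M)
    (hT1 : T 1 ∉ E₀) (hTv : V.valuation (T 0) ≤ 1) :
    ∀ a ∈ E₀, ¬ V.valuation (T 1 - a) < 1 := by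
  intro a₀ ha₀ hlt
  set v := V.valuation with hv
  have hv0 : v w ≠ 0 := by rwa [Ne, map_eq_zero]
  have hTv' : ∀ m, v (T m) ≤ 1 := by
    intro m
    induction m with
    | zero => exact hTv
    | succ m ih =>
      rw [← hT m, map_pow] at ih
      by_contra h
      rw [not_le] at h
      exact absurd ih (not_le.2 (one_lt_pow₀ h hp.out.ne_zero))
  have hfin := finiteDimensional_lev p hT hT0
  have hnot := notMem_lev p hT hT0 hT1
  have hle := lev_le (T := T) hEM hTM
  -- best approximations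
  have hb : ∀ m, ∃ a ∈ lev E₀ T m, ∀ b ∈ lev E₀ T m, v (T (m + 1) - a) ≤ v (T (m + 1) - b) := fun m =>
    hbest _ (le_lev m) (hle m) (hfin m) _ (hTM (m + 1)) (hnot m)
  choose a haE ha using hb
  have hx0 : ∀ m, T (m + 1) - a m ≠ 0 := fun m h => hnot m (by rw [sub_eq_zero.1 h]; exact haE m)
  have hxM : ∀ m, T (m + 1) - a m ∈ M := fun m => sub_mem (hTM _) (hle m (haE m))
  have hn : ∀ m, ∃ n : ℤ, v (T (m + 1) - a m) = v w ^ n := fun m => hM _ (hxM m) (hx0 m)
  choose n hn using hn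
  -- the residue of `T (m + 1)` is a residue of `lev m`
  have hP : ∀ m, ∃ s ∈ lev E₀ T m, v (T (m + 1) - s) < 1 := by
    intro m
    induction m with
    | zero => exact ⟨a₀, le_lev 0 ha₀, hlt⟩
    | succ m ih =>
      obtain ⟨s, hs, hsv⟩ := ih
      set β := (T (m + 1) - a m) / w ^ (n m) with hβ
      have hβv : v β = 1 := by
        rw [hβ, map_div₀, map_zpow₀, hn, div_self (zpow_ne_zero _ hv0)]
      have hβE : β ∈ lev E₀ T (m + 1) := by
        refine div_mem (sub_mem (mem_lev _) (lev_le_lev_succ p hT m (haE m))) ?_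
        exact zpow_mem (le_lev _ hwE) _
      have hbE : β ^ p ∈ lev E₀ T m := lev_succ_le_root p hT m hβE
      have hsv' : v s ≤ 1 := by
        have h1 : s = T (m + 1) - (T (m + 1) - s) := by ring
        rw [h1]
        exact (v.map_sub _ _).trans (max_le (hTv' _) hsv.le)
      obtain ⟨c, hcE, hc⟩ := hprk _ (le_lev m) (hle m) (hfin m) (β ^ p) hbE s hs
        (by rw [map_pow, hβv, one_pow]) hsv' (fun c hc hcv hlt' => by
          rw [← sub_pow_char, map_pow] at hlt'
          have h1 : v (β - c) < 1 := lt_one_of_pow_lt_one hlt'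
          have h2 : a m + w ^ (n m) * c ∈ lev E₀ T m :=
            add_mem (haE m) (mul_mem (zpow_mem (le_lev _ hwE) _) hc)
          have h3 := ha m _ h2
          have h4 : T (m + 1) - (a m + w ^ (n m) * c) = w ^ (n m) * (β - c) := by
            have hw' : w ^ (n m) ≠ 0 := zpow_ne_zero _ hw0
            rw [hβ]
            field_simp
            ring
          rw [h4, map_mul, map_zpow₀, hn] at h3
          have h5 : v w ^ (n m) * v (β - c) < v w ^ (n m) * 1 :=
            mul_lt_mul_of_pos_left h1 (zero_lt_iff.2 (zpow_ne_zero _ hv0))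
          rw [mul_one] at h5
          exact absurd h3 (not_le.2 h5))
      refine ⟨∑ i ∈ Finset.range p, c i * β ^ i, ?_, ?_⟩
      · exact sum_mem fun i _ => mul_mem (lev_le_lev_succ p hT m (hcE i)) (pow_mem hβE i)
      · refine lt_one_of_pow_lt_one (n := p) ?_
        rw [← map_pow, sub_pow_char, hT, sum_pow_char]
        have h1 : ∑ i ∈ Finset.range p, (c i * β ^ i) ^ p = ∑ i ∈ Finset.range p, c i ^ p * (β ^ p) ^ i :=
          Finset.sum_congr rfl fun i _ => by rw [mul_pow, ← pow_mul, ← pow_mul, mul_comm i p]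
        rw [h1]
        have h2 : T (m + 1) - ∑ i ∈ Finset.range p, c i ^ p * (β ^ p) ^ i =
            (T (m + 1) - s) + (s - ∑ i ∈ Finset.range p, c i ^ p * (β ^ p) ^ i) := by ring
        rw [h2]
        exact (v.map_add _ _).trans_lt (max_lt hsv hc)
  -- the exponents
  have hpos : ∀ m, 1 ≤ n m := by
    intro m
    obtain ⟨s, hs, hsv⟩ := hP m
    have h1 : v w ^ (n m) < 1 := by
      rw [← hn]
      exact (ha m s hs).trans_lt hsv
    by_contra h
    have h2 : n m ≤ 0 := by omega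
    obtain ⟨k, hk⟩ := Int.eq_ofNat_of_zero_le (neg_nonneg.2 h2)
    have h3 : n m = -(k : ℤ) := by omega
    rw [h3, zpow_neg, zpow_natCast] at h1
    have h4 : 1 ≤ (v w ^ k)⁻¹ := (one_le_inv₀ (zero_lt_iff.2 (pow_ne_zero _ hv0))).2 (pow_le_one₀ zero_le' hw1.le)
    exact absurd h1 (not_lt.2 h4)
  have hdesc : ∀ m, (p : ℤ) * n (m + 1) ≤ n m := by
    intro m
    have h1 : (a (m + 1)) ^ p ∈ lev E₀ T m := lev_succ_le_root p hT m (haE (m + 1))
    have h2 := ha m _ h1
    have h3 : T (m + 1) - a (m + 1) ^ p = (T (m + 2) - a (m + 1)) ^ p := by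
      rw [sub_pow_char, hT]
    rw [h3, map_pow, hn, hn, ← zpow_natCast, ← zpow_mul] at h2
    by_contra h
    rw [not_le] at h
    have h4 : v w ^ (n (m + 1) * (p : ℤ)) < v w ^ (n m) := by
      have h5 : 0 < v w := zero_lt_iff.2 hv0
      exact zpow_lt_zpow_right_of_lt_one₀ h5 hw1 (by linarith)
    exact absurd h2 (not_le.2 h4)
  have hstep : ∀ m, n (m + 1) + 1 ≤ n m := by
    intro m
    have h1 := hdesc m
    have h2 := hpos (m + 1)
    have h3 : (2 : ℤ) ≤ p := by exact_mod_cast hp.out.two_le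
    nlinarith
  have hlin : ∀ m : ℕ, n m + m ≤ n 0 := by
    intro m
    induction m with
    | zero => simp
    | succ m ih =>
      have := hstep m
      push_cast
      linarith
  have h1 := hlin (n 0).toNat
  have h2 := hpos (n 0).toNat
  have h3 := hpos 0
  omega

end Groth.Agent.Refuted.K728.Descent
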