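import Groth.Agent.Refuted.K728.Descent

/-!
# The end of the argument: two conjugate weak solutions cannot exist

Abstract form.  `E` is a field, finite over `K`, with `E ≤ M`, `E ≤ M'`, all with the same discrete value group;
`T m` (in `M`) and `T' m` (in `M'`) are towers of `p`-th roots with `T m - T' m = β m * P m`, `P` a tower of `p`-th roots of
an element of value `< 1`, `β m ∈ E`, and `y, y' ∈ E` solve `y ^ p - y = T 0 / P 0 ^ p`, `y' ^ p - y' = T' 0 / P 0 ^ p`.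
-/

set_option autoImplicit false

namespace Groth.Agent.Refuted.K728.Descent

open IntermediateField

variable {K Ω : Type*} [Field K] [Field Ω] [Algebra K Ω] (p : ℕ) [hp : Fact p.Prime] [CharP Ω p]

/-- What is used of `E₀ ≤ M`: same discrete value group (generated by `v w`, `w ∈ E₀`), best approximations by the
finite extensions of `E₀` in `M`, residue fields of `p`-rank at most one. -/
structure Good (V : ValuationSubring Ω) (w : Ω) (E₀ M : IntermediateField K Ω) : Prop where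
  le : E₀ ≤ M
  ne_zero : w ≠ 0
  lt_one : V.valuation w < 1
  mem : w ∈ E₀
  value : ∀ x ∈ M, x ≠ 0 → ∃ n : ℤ, V.valuation x = V.valuation w ^ n
  best : ∀ E : IntermediateField K Ω, E₀ ≤ E → E ≤ M → FiniteDimensional K E → ∀ x ∈ M, x ∉ E →
      ∃ a ∈ E, ∀ b ∈ E, V.valuation (x - a) ≤ V.valuation (x - b)
  prank : ∀ E : IntermediateField K Ω, E₀ ≤ E → E ≤ M → FiniteDimensional K E → ∀ b ∈ E, ∀ s ∈ E,
      V.valuation b ≤ 1 → V.valuation s ≤ 1 → (∀ c ∈ E, V.valuation c ≤ 1 → ¬ V.valuation (b - c ^ p) < 1) →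
      ∃ c : ℕ → Ω, (∀ i, c i ∈ E) ∧ V.valuation (s - ∑ i ∈ Finset.range p, c i ^ p * b ^ i) < 1

/-- A unit `u` with `u ^ p = T + u * P ^ (p - 1)` has the residue of the `p`-th root of `T`. -/
theorem residue_root (V : ValuationSubring Ω) (z T T₁ P : Ω) (hT : T₁ ^ p = T) (hTv : V.valuation T ≤ 1) (hP0 : P ≠ 0)
    (hP : V.valuation P < 1) (hz : z ^ p - z = T / P ^ p) : V.valuation (T₁ - z * P) < 1 := by
  set v := V.valuation with hv
  have hPp : P ^ p ≠ 0 := pow_ne_zero _ hP0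
  have e1 : (z * P) ^ p = T + z * P ^ p := by
    rw [mul_pow]
    have : z ^ p = z + T / P ^ p := by rw [← hz]; ring
    rw [this]
    field_simp
    ring
  have hp1 : p = (p - 1) + 1 := (Nat.succ_pred_prime hp.out).symm
  have e2 : z * P ^ p = z * P * P ^ (p - 1) := by
    conv_lhs => rw [hp1]
    rw [pow_succ]
    ring
  have hPv : v (P ^ (p - 1)) < 1 := by
    rw [map_pow]
    exact pow_lt_one₀ zero_le hP (by have := hp.out.two_le; omega)
  have hu : v (z * P) ≤ 1 := by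
    by_contra h
    rw [not_le] at h
    have h1 : v (z * P) ^ p ≤ max 1 (v (z * P)) := by
      rw [← map_pow, e1, e2]
      refine (v.map_add _ _).trans (max_le_max hTv ?_)
      rw [map_mul]
      exact (mul_le_mul' le_rfl hPv.le).trans_eq (mul_one _)
    rw [max_eq_right h.le] at h1
    have h2 : v (z * P) ^ 1 < v (z * P) ^ p := pow_lt_pow_right₀ h hp.out.one_lt
    rw [pow_one] at h2
    exact absurd h1 (not_le.2 h2)
  refine lt_one_of_pow_lt_one (n := p) ?_
  rw [← map_pow, sub_pow_char, hT, e1, e2]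
  have e3 : T - (T + z * P * P ^ (p - 1)) = -(z * P * P ^ (p - 1)) := by ring
  rw [e3, Valuation.map_neg, map_mul]
  exact (mul_le_mul' hu le_rfl).trans_lt ((one_mul _).trans_lt hPv)

/-- The recursion for the Artin-Schreier generators. -/
theorem exists_z {E : IntermediateField K Ω} {T P : ℕ → Ω} (hT : ∀ m, T (m + 1) ^ p = T m)
    (hP : ∀ m, P (m + 1) ^ p = P m) {y : Ω} (hy : y ∈ E) (hyT : y ^ p - y = T 0 / P 0 ^ p) (r : ℕ)
    (hTE : ∀ m ≤ r, T m ∈ E) (hPE : ∀ m ≤ r, P m ∈ E) : ∀ m ≤ r, ∃ z ∈ E, z ^ p - z = T m / P m ^ p := by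
  intro m hm
  induction m with
  | zero => exact ⟨y, hy, hyT⟩
  | succ m ih =>
    obtain ⟨z, hz, hzT⟩ := ih (by omega)
    refine ⟨z - T (m + 1) / P m, sub_mem hz (div_mem (hTE _ hm) (hPE _ (by omega))), ?_⟩
    rw [sub_pow_char, div_pow, hT, hP]
    have : z ^ p = z + T m / P m ^ p := by rw [← hzT]; ring
    rw [this]
    ring

theorem pow_tower {T : ℕ → Ω} (hT : ∀ m, T (m + 1) ^ p = T m) (r m : ℕ) : T (r + m) ^ p ^ m = T r := by
  induction m with
  | zero => simp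
  | succ m ih => rw [pow_succ', pow_mul, ← add_assoc, hT, ih]

theorem mem_of_le {E : IntermediateField K Ω} {T : ℕ → Ω} (hT : ∀ m, T (m + 1) ^ p = T m) {r m : ℕ} (hm : m ≤ r)
    (h : T r ∈ E) : T m ∈ E := by
  obtain ⟨k, rfl⟩ := Nat.exists_eq_add_of_le hm
  rw [← pow_tower p hT m k]
  exact pow_mem h _

/-- One side of the ending. -/
theorem side (V : ValuationSubring Ω) {w : Ω} {E M : IntermediateField K Ω} [FiniteDimensional K E]
    (hG : Good p V w E M) {T P : ℕ → Ω} (hT : ∀ m, T (m + 1) ^ p = T m) (hP : ∀ m, P (m + 1) ^ p = P m)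
    (hP0 : P 0 ≠ 0) (hP1 : V.valuation (P 0) < 1) (hTv : V.valuation (T 0) ≤ 1) (hTM : ∀ m, T m ∈ M)
    {y : Ω} (hy : y ∈ E) (hyT : y ^ p - y = T 0 / P 0 ^ p) (r : ℕ) (hTr : T r ∈ E) (hPr : P r ∈ E)
    (hTr' : T (r + 1) ∉ E) : False := by
  have hPm : ∀ m, P m ≠ 0 := by
    intro m h
    apply hP0
    rw [← pow_tower p hP 0 m, zero_add, h, zero_pow (pow_ne_zero _ hp.out.ne_zero)]
  have hlt : ∀ m, V.valuation (P m) < 1 := by
    intro m
    refine lt_one_of_pow_lt_one (n := p ^ m) ?_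
    rw [← map_pow]
    have := pow_tower p hP 0 m
    rw [zero_add] at this
    rw [this]
    exact hP1
  have hTvm : ∀ m, V.valuation (T m) ≤ 1 := by
    intro m
    by_contra h
    rw [not_le] at h
    have h1 := pow_tower p hT 0 m
    rw [zero_add] at h1
    rw [← h1, map_pow] at hTv
    exact absurd hTv (not_le.2 (one_lt_pow₀ h (pow_ne_zero _ hp.out.ne_zero)))
  obtain ⟨z, hz, hzT⟩ := exists_z p hT hP hy hyT r (fun m hm => mem_of_le p hT hm hTr)
    (fun m hm => mem_of_le p hP hm hPr) r le_rfl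
  have h1 := residue_root p V z (T r) (T (r + 1)) (P r) (hT r) (hTvm r) (hPm r) (hlt r) hzT
  exact main p V hG.le w hG.ne_zero hG.lt_one hG.mem hG.value hG.best hG.prank (fun m => T (r + m))
    (fun m => hT (r + m)) hTr (fun m => hTM _) hTr' (hTvm r) (z * P r) (mul_mem hz hPr) h1

/-- **The ending.** -/
theorem ending (V : ValuationSubring Ω) {w w' : Ω} {E M M' : IntermediateField K Ω} [FiniteDimensional K E]
    (hG : Good p V w E M) (hG' : Good p V w' E M') {T T' P β : ℕ → Ω}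
    (hT : ∀ m, T (m + 1) ^ p = T m) (hT' : ∀ m, T' (m + 1) ^ p = T' m) (hP : ∀ m, P (m + 1) ^ p = P m)
    (hTP : ∀ m, T m - T' m = β m * P m) (hβ : ∀ m, β m ∈ E) (hβ0 : ∀ m, β m ≠ 0)
    (hP0 : P 0 ≠ 0) (hP1 : V.valuation (P 0) < 1) (hTv : V.valuation (T 0) ≤ 1) (hTv' : V.valuation (T' 0) ≤ 1)
    (hTM : ∀ m, T m ∈ M) (hTM' : ∀ m, T' m ∈ M') {y y' : Ω} (hy : y ∈ E) (hy' : y' ∈ E)
    (hyT : y ^ p - y = T 0 / P 0 ^ p) (hyT' : y' ^ p - y' = T' 0 / P 0 ^ p) (hT0 : T 0 ∈ E) (hT0' : T' 0 ∈ E)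
    (hstop : ∃ m, ¬ (T m ∈ E ∧ T' m ∈ E)) : False := by
  classical
  obtain ⟨m, hm, hmin⟩ : ∃ m, ¬ (T m ∈ E ∧ T' m ∈ E) ∧ ∀ k < m, T k ∈ E ∧ T' k ∈ E :=
    ⟨Nat.find hstop, Nat.find_spec hstop, fun k hk => not_not.1 (Nat.find_min hstop hk)⟩
  rcases m with _ | r
  · exact hm ⟨hT0, hT0'⟩
  obtain ⟨h1, h2⟩ := hmin r (Nat.lt_succ_self r)
  have hPr : P r ∈ E := by
    have e : P r = (T r - T' r) / β r := by
      rw [hTP, mul_div_cancel_left₀ _ (hβ0 r)]
    rw [e]
    exact div_mem (sub_mem h1 h2) (hβ r)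
  rw [not_and_or] at hm
  rcases hm with hm | hm
  · exact side p V hG hT hP hP0 hP1 hTv hTM hy hyT r h1 hPr hm
  · exact side p V hG' hT' hP hP0 hP1 hTv' hTM' hy' hyT' r h2 hPr hm

end Groth.Agent.Refuted.K728.Descent
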