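import Groth.Agent.Refuted.K728.Ending
import Groth.Agent.Refuted.K728.TowerFull
import Groth.Agent.Refuted.K727.Dict
import Groth.Agent.Refuted.K727.Stmt
import Groth.Agent.Refuted.K845.YMem
import Groth.Agent.Refuted.K972.Best
import Mathlib.FieldTheory.Finite.GaloisField

/-!
# Half (II): there is no weak solution

`k → A → K → Ω`, `V` the valuation subring of `Ω` dominating the complete discrete valuation ring `A`,
`T (m + 1) ^ p = T m`, `T 0 = t + ϖ α` with `α ^ (p ^ 2) = α` not fixed by `g ∈ Aut(Ω/K)`,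
`y ^ p - y = T 0 / ϖ ^ p`, and `L` a discretely valued field which contains `K(k^sep)(T m : m)` and `y`.
-/

set_option autoImplicit false
set_option linter.unusedSectionVars false
universe u

namespace Groth.Agent.Refuted.K728.NoWeak

open IsLocalRing EtRam IntermediateField Groth.Agent.Refuted.K845 Groth.Agent.Refuted.K775.PRank
  Groth.Agent.Refuted.K728.Tower Groth.Agent.Etalg

variable {k A K Ω : Type u} [Field k] [CommRing A] [IsDomain A] [IsDiscreteValuationRing A] [HenselianLocalRing A]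
  [Field K] [Algebra A K] [IsFractionRing A K] [Field Ω] [Algebra K Ω] [Algebra A Ω] [IsScalarTower A K Ω]
  [Algebra.IsAlgebraic K Ω] [Algebra k A] [Algebra k K] [IsScalarTower k A K]
  [Algebra k Ω] [IsScalarTower k K Ω] (V : ValuationSubring Ω) (hV : Dominates A (algebraMap A Ω) V)

variable (K) in
include K in
theorem algebraMap_k (c : k) : algebraMap k Ω c = algebraMap A Ω (algebraMap k A c) := by
  rw [IsScalarTower.algebraMap_apply k K Ω, IsScalarTower.algebraMap_apply A K Ω, ← IsScalarTower.algebraMap_apply k A K]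

variable (K) in
include K hV in
theorem k_mem (c : k) : algebraMap k Ω c ∈ V := by
  rw [algebraMap_k (A := A) K]
  exact hV.1 _

variable (K) in
include K hV in
theorem exists_const_A (hAk : ∀ a : A, ∃ c : k, a - algebraMap k A c ∈ maximalIdeal A) (a : A) :
    ∃ c : k, V.valuation (algebraMap A Ω a - algebraMap k Ω c) < 1 := by
  obtain ⟨c, hc⟩ := hAk a
  refine ⟨c, ?_⟩
  rw [algebraMap_k (A := A) K, ← map_sub]
  exact hV.2 _ hc

include hV in
theorem dom_iff : K972.Best.Dom A K V :=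
  ⟨fun a => by rw [← IsScalarTower.algebraMap_apply A K Ω]; exact hV.1 a,
    fun a ha => by rw [← IsScalarTower.algebraMap_apply A K Ω]; exact hV.2 a ha⟩

include hV in
theorem exists_const_K (hAk : ∀ a : A, ∃ c : k, a - algebraMap k A c ∈ maximalIdeal A) (x : K)
    (hx : V.valuation (algebraMap K Ω x) ≤ 1) : ∃ c : k, V.valuation (algebraMap K Ω x - algebraMap k Ω c) < 1 := by
  obtain ⟨a, rfl⟩ := K972.Best.exists_of_le_one (dom_iff (A := A) V hV) x hx
  rw [← IsScalarTower.algebraMap_apply A K Ω]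
  exact exists_const_A K V hV hAk a

include hV in
theorem value_K {ϖ : A} (hϖ : Irreducible ϖ) (x : K) (hx : x ≠ 0) :
    ∃ n : ℤ, V.valuation (algebraMap K Ω x) = V.valuation (algebraMap K Ω (algebraMap A K ϖ)) ^ n := by
  refine RamDVR.exists_zpow_of_frac (A := A) ?_ hϖ x hx
  rw [← IsScalarTower.algebraMap_eq A K Ω]
  exact hV

include hV in
theorem unif_K {ϖ : A} (hϖ : Irreducible ϖ) : Unif V K (algebraMap A K ϖ) := by
  refine ⟨?_, ?_, value_K V hV hϖ⟩
  · rw [Ne, IsFractionRing.to_map_eq_zero_iff]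
    exact hϖ.ne_zero
  · rw [← IsScalarTower.algebraMap_apply A K Ω]
    exact hV.2 _ ((mem_maximalIdeal _).2 hϖ.not_isUnit)

/-- a tower of `p`-th roots -/
theorem exists_roots [IsAlgClosed Ω] {p : ℕ} (hp : 0 < p) (x : Ω) :
    ∃ r : ℕ → Ω, r 0 = x ∧ ∀ m, r (m + 1) ^ p = r m := by
  choose f hf using fun z : Ω => IsAlgClosed.exists_pow_nat_eq z hp
  refine ⟨fun m => f^[m] x, rfl, fun m => ?_⟩
  show (f^[m + 1] x) ^ p = f^[m] x
  rw [Function.iterate_succ_apply']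
  exact hf _

variable (p : ℕ) [hp : Fact p.Prime] [CharP Ω p]

variable (k) in
theorem sep_of_pow {α : Ω} (hα : α ^ p ^ 2 = α) : α ∈ separableClosure k Ω := by
  haveI : CharP k p := (algebraMap k Ω).charP (algebraMap k Ω).injective p
  rw [mem_separableClosure_iff]
  refine (galois_poly_separable (K := k) p (p ^ 2) (Dvd.intro_left (p ^ 1) rfl)).of_dvd (minpoly.dvd _ _ ?_)
  rw [map_sub, map_pow, Polynomial.aeval_X, hα, sub_self]

theorem alpha_pow {α : Ω} (hα : α ^ p ^ 2 = α) (m : ℕ) : (α ^ p ^ (m + 1)) ^ p = α ^ p ^ m := by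
  rw [← pow_mul]
  have e : p ^ (m + 1) * p = p ^ 2 * p ^ m := by ring
  rw [e, pow_mul, hα]

/-- `T m = τ m + α ^ (p ^ m) * P m` -/
theorem T_eq {T τ P : ℕ → Ω} {α : Ω} (hα : α ^ p ^ 2 = α) (hT0 : T 0 = τ 0 + P 0 * α) (hT : ∀ m, T (m + 1) ^ p = T m)
    (hτ : ∀ m, τ (m + 1) ^ p = τ m) (hP : ∀ m, P (m + 1) ^ p = P m) (m : ℕ) : T m = τ m + α ^ p ^ m * P m := by
  induction m with
  | zero => rw [hT0, pow_zero, pow_one, mul_comm]
  | succ m ih =>
    refine pow_inj p 1 ?_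
    rw [pow_one, add_pow_char, mul_pow, hT, hτ, hP, alpha_pow p hα, ih]

theorem val_root_lt {P : ℕ → Ω} (hP : ∀ m, P (m + 1) ^ p = P m) (hP1 : V.valuation (P 0) < 1) (m : ℕ) :
    V.valuation (P m) < 1 := by
  refine Descent.lt_one_of_pow_lt_one (n := p ^ m) ?_
  rw [← map_pow]
  have := Tower.tower_pow p hP 0 m
  rw [zero_add] at this
  rw [this]
  exact hP1

include hV in
theorem val_sub_lt {T τ P : ℕ → Ω} {α : Ω} (hα : α ^ p ^ 2 = α) (hT0 : T 0 = τ 0 + P 0 * α)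
    (hT : ∀ m, T (m + 1) ^ p = T m) (hτ : ∀ m, τ (m + 1) ^ p = τ m) (hP : ∀ m, P (m + 1) ^ p = P m)
    (hP1 : V.valuation (P 0) < 1) (m : ℕ) : V.valuation (T m - τ m) < 1 := by
  rw [T_eq p hα hT0 hT hτ hP m, add_sub_cancel_left, map_mul]
  have h1 : V.valuation (α ^ p ^ m) ≤ 1 := by
    rw [map_pow]
    refine pow_le_one₀ zero_le ?_
    by_contra h
    rw [not_le] at h
    have h2 : V.valuation α ^ 1 < V.valuation α ^ p ^ 2 :=
      pow_lt_pow_right₀ h (Nat.one_lt_pow two_ne_zero hp.out.one_lt)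
    rw [pow_one, ← map_pow, hα] at h2
    exact lt_irrefl _ h2
  exact (mul_le_mul' h1 le_rfl).trans_lt ((one_mul _).trans_lt (val_root_lt V p hP hP1 m))

section main

variable [IsAlgClosed Ω]

variable (k K Ω) in
/-- `K(k^sep)` -/
def Ku : IntermediateField K Ω := adjoin K (separableClosure k Ω : Set Ω)

theorem sep_mem_Ku {a : Ω} (ha : a ∈ separableClosure k Ω) : a ∈ Ku k K Ω := subset_adjoin _ _ ha

theorem Ku_le_N (T : ℕ → Ω) : Ku k K Ω ≤ N k K T :=
  (adjoin_le_iff.2 fun _ hx => sep_mem_E hx).trans (E_le_N 0)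

theorem T_mem_N (T : ℕ → Ω) (m : ℕ) : T m ∈ N k K T := E_le_N m (mem_E _)

theorem exists_pow_mem_Ku {T : ℕ → Ω} (hT : ∀ m, T (m + 1) ^ p = T m) (hT0 : T 0 ∈ Ku k K Ω) (x : Ω)
    (hx : x ∈ N k K T) : ∃ m : ℕ, x ^ p ^ m ∈ Ku k K Ω := by
  haveI : ExpChar (Ku k K Ω) p := expChar_of p (algebraMap (Ku k K Ω) Ω)
  have h : N k K T ≤ (perfectClosure (Ku k K Ω) Ω).restrictScalars K := by
    refine iSup_le fun m => adjoin_le_iff.2 ?_
    rintro z (hz | hz)
    · exact (mem_perfectClosure_iff_pow_mem p).2 ⟨0, ⟨z, sep_mem_Ku hz⟩, by rw [pow_zero, pow_one]; rfl⟩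
    · rw [Set.mem_singleton_iff] at hz
      have h1 := Tower.tower_pow p hT 0 m
      rw [zero_add] at h1
      exact (mem_perfectClosure_iff_pow_mem p).2 ⟨m, ⟨T 0, hT0⟩, by rw [hz, h1]; rfl⟩
  obtain ⟨m, ⟨b, hb⟩, hm⟩ := (mem_perfectClosure_iff_pow_mem p).1 (h hx)
  exact ⟨m, hm ▸ hb⟩

include hV in
/-- `y` descends to `Ku ⊔ E₀` -/
theorem mem_Ku_sup {T : ℕ → Ω} (hT : ∀ m, T (m + 1) ^ p = T m) (hT0 : T 0 ∈ Ku k K Ω)
    (hfull : ∀ x ∈ V, ∃ a ∈ N k K T, V.valuation (x - a) < 1) (M E₀ : IntermediateField K Ω)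
    (hNM : N k K T ≤ M) (hEM : E₀ ≤ M) (w : Ω) (hwE : w ∈ E₀) (hw0 : w ≠ 0) (hw1 : V.valuation w < 1)
    (hM : ∀ x ∈ M, x ≠ 0 → ∃ n : ℤ, V.valuation x = V.valuation w ^ n) (y : Ω) (hyM : y ∈ M)
    (hy : y ^ p - y ∈ Ku k K Ω ⊔ E₀) : y ∈ Ku k K Ω ⊔ E₀ := by
  have hle : Ku k K Ω ⊔ E₀ ≤ M := sup_le ((Ku_le_N T).trans hNM) hEM
  refine mem_of_unramified (A := A) V p hV.1 (fun x hx => (mem_iff K V hV x).1 hx) (Ku k K Ω ⊔ E₀) (N k K T)
    (fun x hx => ?_) (fun x hx => ?_) ⟨w, le_sup_right (a := Ku k K Ω) hwE⟩ ⟨fun h => hw0 (congrArg Subtype.val h),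
      hw1, fun x hx => hM x (hle x.2) (fun h => hx (Subtype.ext h))⟩ y hy ?_
  · obtain ⟨m, hm⟩ := exists_pow_mem_Ku p hT hT0 x hx
    exact ⟨m, le_sup_left (b := E₀) hm⟩
  · obtain ⟨a, ha, hxa⟩ := hfull x hx
    exact ⟨⟨a, ha⟩, hxa⟩
  · intro x hx hx0
    exact hM x ((sup_le (sup_le hle hNM) (adjoin_simple_le_iff.2 hyM)) hx) hx0

include hV in
/-- The core: `E₀` finite over `K` with the same values as two composites `M`, `M'` cannot exist. -/
theorem core [IsAdicComplete (maximalIdeal A) A] (hAk : ∀ a : A, ∃ c : k, a - algebraMap k A c ∈ maximalIdeal A)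
    (hgen : PRk p k) (t : k) (ht : ∀ c : k, c ^ p ≠ t) (ϖ : A) (hϖ : Irreducible ϖ) (α : Ω) (hα : α ^ p ^ 2 = α)
    (T : ℕ → Ω) (hT0 : T 0 = algebraMap k Ω t + algebraMap A Ω ϖ * α) (hT : ∀ m, T (m + 1) ^ p = T m)
    (g : Ω ≃ₐ[K] Ω) (hg : g α ≠ α) (y : Ω) (hy : y ^ p - y = T 0 / algebraMap A Ω ϖ ^ p)
    (M M' E₀ : IntermediateField K Ω) [FiniteDimensional K E₀] (hNM : N k K T ≤ M)
    (hNM' : N k K (fun m => g (T m)) ≤ M') (hyM : y ∈ M) (hyM' : g y ∈ M') (hEM : E₀ ≤ M) (hEM' : E₀ ≤ M')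
    (hM : ∀ x ∈ M, ∃ z ∈ E₀, V.valuation z = V.valuation x) (hM' : ∀ x ∈ M', ∃ z ∈ E₀, V.valuation z = V.valuation x) :
    False := by
  classical
  haveI : CharP k p := (algebraMap k Ω).charP (algebraMap k Ω).injective p
  have hk : ∀ c : k, algebraMap k Ω c ∈ V := k_mem K V hV
  obtain ⟨τ, hτ0, hτ⟩ := exists_roots (Ω := Ω) hp.out.pos (algebraMap k Ω t)
  obtain ⟨P, hP0, hP⟩ := exists_roots (Ω := Ω) hp.out.pos (algebraMap A Ω ϖ)
  have hP1 : V.valuation (P 0) < 1 := by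
    rw [hP0]
    exact hV.2 _ ((mem_maximalIdeal _).2 hϖ.not_isUnit)
  have hPne : P 0 ≠ 0 := by
    rw [hP0, IsScalarTower.algebraMap_apply A K Ω, _root_.map_ne_zero, Ne, IsFractionRing.to_map_eq_zero_iff]
    exact hϖ.ne_zero
  have hgt : g (algebraMap k Ω t) = algebraMap k Ω t := by
    rw [IsScalarTower.algebraMap_apply k K Ω, AlgEquiv.commutes]
  have hgϖ : g (algebraMap A Ω ϖ) = algebraMap A Ω ϖ := by
    rw [IsScalarTower.algebraMap_apply A K Ω, AlgEquiv.commutes]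
  have hα' : (g α) ^ p ^ 2 = g α := by rw [← map_pow, hα]
  -- the two towers
  have hT0τ : T 0 = τ 0 + P 0 * α := by rw [hT0, hτ0, hP0]
  have hT' : ∀ m, (g (T (m + 1))) ^ p = g (T m) := fun m => by rw [← map_pow, hT]
  have hT0' : g (T 0) = algebraMap k Ω t + algebraMap A Ω ϖ * g α := by
    rw [hT0, map_add, map_mul, hgt, hgϖ]
  have hT0τ' : g (T 0) = τ 0 + P 0 * g α := by rw [hT0', hτ0, hP0]
  have hTe := T_eq p hα hT0τ hT hτ hP
  have hTe' := T_eq (T := fun m => g (T m)) p hα' hT0τ' hT' hτ hP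
  have hTτ := val_sub_lt V hV p hα hT0τ hT hτ hP hP1
  have hTτ' := val_sub_lt (T := fun m => g (T m)) V hV p hα' hT0τ' hT' hτ hP hP1
  -- the residue field
  have hfull := N_full (T := T) K V p (algebraMap A Ω) (exists_const_A K V hV hAk) hk
    (fun x hx => (mem_iff K V hV x).1 hx) ht hgen hτ0 hτ hTτ
  have hfull' := N_full (T := fun m => g (T m)) K V p (algebraMap A Ω) (exists_const_A K V hV hAk) hk
    (fun x hx => (mem_iff K V hV x).1 hx) ht hgen hτ0 hτ hTτ'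
  -- the uniformizer of `E₀`
  obtain ⟨⟨w, hwE⟩, e, ⟨hw0, hw1, hw2⟩, he, hwe⟩ := exists_unif V (P := K) (F := E₀) (unif_K (A := A) (K := K) V hV hϖ)
  replace hw1 : V.valuation w < 1 := hw1
  replace hw2 : ∀ x : E₀, x ≠ 0 → ∃ n : ℤ, V.valuation (x : Ω) = V.valuation w ^ n := hw2
  replace hwe : V.valuation w ^ e = V.valuation (P 0) := by
    rw [hP0, IsScalarTower.algebraMap_apply A K Ω]
    exact hwe
  have hw0' : w ≠ 0 := fun h => hw0 (Subtype.ext h)
  have hval : ∀ M : IntermediateField K Ω, (∀ x ∈ M, ∃ z ∈ E₀, V.valuation z = V.valuation x) →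
      ∀ x ∈ M, x ≠ 0 → ∃ n : ℤ, V.valuation x = V.valuation w ^ n := by
    intro M hM x hx hx0
    obtain ⟨z, hz, hzx⟩ := hM x hx
    have hz0 : z ≠ 0 := by
      rintro rfl
      rw [map_zero] at hzx
      exact hx0 ((Valuation.zero_iff _).1 hzx.symm)
    obtain ⟨n, hn⟩ := hw2 ⟨z, hz⟩ (fun h => hz0 (congrArg Subtype.val h))
    exact ⟨n, hzx ▸ hn⟩
  have hvM := hval M hM
  have hvM' := hval M' hM'
  -- `y` and `g y` lie in `Ku ⊔ E₀`
  have hαS := sep_of_pow k p hα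
  have hαS' := sep_of_pow k p hα'
  have hT0Ku : ∀ a ∈ separableClosure k Ω, algebraMap k Ω t + algebraMap A Ω ϖ * a ∈ Ku k K Ω := by
    intro a ha
    refine add_mem (sep_mem_Ku (IntermediateField.algebraMap_mem _ _)) (mul_mem ?_ (sep_mem_Ku ha))
    rw [IsScalarTower.algebraMap_apply A K Ω]
    exact IntermediateField.algebraMap_mem _ _
  have hdiv : ∀ z ∈ Ku k K Ω, z / algebraMap A Ω ϖ ^ p ∈ Ku k K Ω ⊔ E₀ := by
    intro z hz
    refine div_mem ((le_sup_left (b := E₀)) hz) (pow_mem ?_ _)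
    rw [IsScalarTower.algebraMap_apply A K Ω]
    exact IntermediateField.algebraMap_mem _ _
  have hy' : (g y) ^ p - g y = g (T 0) / algebraMap A Ω ϖ ^ p := by
    rw [← map_pow, ← map_sub, hy, map_div₀, map_pow, hgϖ]
  have hyKu : y ∈ Ku k K Ω ⊔ E₀ := mem_Ku_sup V hV p hT (by rw [hT0]; exact hT0Ku α hαS) hfull M E₀ hNM hEM w hwE
    hw0' hw1 hvM y hyM (by rw [hy, hT0]; exact hdiv _ (hT0Ku α hαS))
  have hyKu' : g y ∈ Ku k K Ω ⊔ E₀ := mem_Ku_sup (T := fun m => g (T m)) V hV p hT'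
    (by rw [hT0']; exact hT0Ku _ hαS') hfull' M' E₀ hNM' hEM' w hwE
    hw0' hw1 hvM' (g y) hyM' (by rw [hy', hT0']; exact hdiv _ (hT0Ku _ hαS'))
  -- the field `E`
  let E : IntermediateField K Ω := E₀ ⊔ adjoin K {y, g y, α, g α}
  have hfin : FiniteDimensional K (adjoin K ({y, g y, α, g α} : Set Ω)) :=
    finiteDimensional_adjoin fun x _ => Algebra.IsIntegral.isIntegral x
  haveI : FiniteDimensional K E := IntermediateField.finiteDimensional_sup _ _
  have hyE : y ∈ E := le_sup_right (a := E₀) (subset_adjoin _ _ (by simp))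
  have hyE' : g y ∈ E := le_sup_right (a := E₀) (subset_adjoin _ _ (by simp))
  have hαE : α ∈ E := le_sup_right (a := E₀) (subset_adjoin _ _ (by simp))
  have hαE' : g α ∈ E := le_sup_right (a := E₀) (subset_adjoin _ _ (by simp))
  have hEKu : E ≤ Ku k K Ω ⊔ E₀ := by
    refine sup_le le_sup_right (adjoin_le_iff.2 ?_)
    rintro z (rfl | rfl | rfl | rfl)
    · exact hyKu
    · exact hyKu'
    · exact le_sup_left (b := E₀) (sep_mem_Ku hαS)
    · exact le_sup_left (b := E₀) (sep_mem_Ku hαS')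
  have hEM1 : E ≤ M := hEKu.trans (sup_le ((Ku_le_N T).trans hNM) hEM)
  have hEM1' : E ≤ M' := hEKu.trans (sup_le ((Ku_le_N _).trans hNM') hEM')
  have hwE1 : w ∈ E := le_sup_left (b := adjoin K {y, g y, α, g α}) hwE
  have hgood : ∀ M : IntermediateField K Ω, E ≤ M →
      (∀ x ∈ M, x ≠ 0 → ∃ n : ℤ, V.valuation x = V.valuation w ^ n) → Descent.Good p V w E M := by
    intro M hEM hvM
    refine ⟨hEM, hw0', hw1, hwE1, hvM, ?_, ?_⟩
    · intro E' _ hE' _ x hx hxE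
      exact K972.Best.main (A := A) (dom_iff V hV) w hw1 hvM E' hE' x hx hxE
    · intro E' _ _ _
      refine hprk (A := A) V (dom_iff V hV).mem (dom_iff V hV).lt ?_ E'
      exact hgen.residue (algebraMap k A) hAk
  have hval1 : ∀ {x : Ω} (c : Ω), V.valuation (x - c) < 1 → IsIntegral k c → V.valuation x ≤ 1 := by
    intro x c hxc hc
    have e : x = (x - c) + c := by ring
    rw [e]
    exact (V.valuation.map_add _ _).trans
      (max_le hxc.le ((V.valuation_le_one_iff _).2 (mem_of_isIntegral V hk hc)))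
  have hβ0 : ∀ m, α ^ p ^ m - (g α) ^ p ^ m ≠ 0 := by
    intro m h
    rw [sub_eq_zero] at h
    exact hg (pow_inj p m h).symm
  refine Descent.ending p V (hgood M hEM1 hvM) (hgood M' hEM1' hvM') (T := T) (T' := fun m => g (T m)) (P := P)
    (β := fun m => α ^ p ^ m - (g α) ^ p ^ m) hT hT' hP ?_ ?_ hβ0 hPne hP1
    (hval1 _ (hTτ 0) (tau_isIntegral p hτ0 hτ 0)) (hval1 _ (hTτ' 0) (tau_isIntegral p hτ0 hτ 0))
    (fun m => hNM (T_mem_N T m)) (fun m => hNM' (T_mem_N (fun m => g (T m)) m)) hyE hyE' ?_ ?_ ?_ ?_ ?_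
  · intro m
    rw [hTe' m, hTe m]
    ring
  · intro m
    exact sub_mem (pow_mem hαE _) (pow_mem hαE' _)
  · rw [hP0, hy]
  · rw [hP0, hy']
  · rw [hT0, IsScalarTower.algebraMap_apply k K Ω, IsScalarTower.algebraMap_apply A K Ω]
    exact add_mem (IntermediateField.algebraMap_mem _ _) (mul_mem (IntermediateField.algebraMap_mem _ _) hαE)
  · rw [hT0', IsScalarTower.algebraMap_apply k K Ω, IsScalarTower.algebraMap_apply A K Ω]
    exact add_mem (IntermediateField.algebraMap_mem _ _) (mul_mem (IntermediateField.algebraMap_mem _ _) hαE')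
  · by_contra hcon
    push Not at hcon
    have hPE : ∀ m, P m ∈ E := by
      intro m
      obtain ⟨h1, h2⟩ := hcon m
      have e : P m = (T m - g (T m)) / (α ^ p ^ m - (g α) ^ p ^ m) := by
        rw [eq_div_iff (hβ0 m), hTe' m, hTe m]
        ring
      rw [e]
      exact div_mem (sub_mem h1 h2) (sub_mem (pow_mem hαE _) (pow_mem hαE' _))
    have hv0 : 0 < V.valuation w := zero_lt_iff.2 ((Valuation.ne_zero_iff _).2 hw0')
    have hanti : StrictAnti fun n : ℤ => V.valuation w ^ n := zpow_right_strictAnti₀ hv0 hw1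
    have hdvd : ∀ m, ((p ^ m : ℕ) : ℤ) ∣ (e : ℤ) := by
      intro m
      have hPm0 : P m ≠ 0 := by
        intro h
        apply hPne
        have := Tower.tower_pow p hP 0 m
        rw [zero_add, h, zero_pow (pow_ne_zero _ hp.out.ne_zero)] at this
        exact this.symm
      obtain ⟨n, hn⟩ := hvM (P m) (hEM1 (hPE m)) hPm0
      refine ⟨n, ?_⟩
      apply hanti.injective
      have := Tower.tower_pow p hP 0 m
      rw [zero_add] at this
      show V.valuation w ^ (e : ℤ) = V.valuation w ^ (((p ^ m : ℕ) : ℤ) * n)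
      rw [zpow_natCast, hwe, ← this, map_pow, hn, mul_comm, zpow_mul, zpow_natCast]
    have h1 : p ^ e ≤ e := Nat.le_of_dvd he (by exact_mod_cast hdvd e)
    exact absurd h1 (not_le.2 (Nat.lt_pow_self hp.out.one_lt))

theorem N_le_map (g : Ω ≃ₐ[K] Ω) (T : ℕ → Ω) : N k K (fun m => g (T m)) ≤ (N k K T).map (g : Ω →ₐ[K] Ω) := by
  refine iSup_le fun m => adjoin_le_iff.2 ?_
  rintro z (hz | hz)
  · refine ⟨g.symm z, E_le_N 0 (sep_mem_E ?_), ?_⟩
    · rw [SetLike.mem_coe, mem_separableClosure_iff] at hz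
      rw [mem_separableClosure_iff]
      exact IsSeparable.map ((g.symm.restrictScalars k : Ω ≃ₐ[k] Ω) : Ω →ₐ[k] Ω)
        (g.symm.restrictScalars k : Ω ≃ₐ[k] Ω).injective hz
    · exact g.apply_symm_apply z
  · rw [Set.mem_singleton_iff] at hz
    exact ⟨T m, T_mem_N T m, hz.symm⟩

include hV in
/-- **Half (II).**  There is no weak solution over a discretely valued `L` containing `K(k^sep)(T m : m)` and `y`. -/
theorem not_isWeakSolution [IsAdicComplete (maximalIdeal A) A]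
    (hAk : ∀ a : A, ∃ c : k, a - algebraMap k A c ∈ maximalIdeal A)
    (hgen : PRk p k) (t : k) (ht : ∀ c : k, c ^ p ≠ t) (ϖ : A) (hϖ : Irreducible ϖ) (α : Ω) (hα : α ^ p ^ 2 = α)
    (T : ℕ → Ω) (hT0 : T 0 = algebraMap k Ω t + algebraMap A Ω ϖ * α) (hT : ∀ m, T (m + 1) ^ p = T m)
    (g : Ω ≃ₐ[K] Ω) (hg : g α ≠ α) (y : Ω) (hy : y ^ p - y = T 0 / algebraMap A Ω ϖ ^ p)
    (L : IntermediateField K Ω) (hNL : N k K T ≤ L) (hyL : y ∈ L)
    [IsDiscreteValuationRing (V.comap (algebraMap L Ω))] (K₁ : Type u) [Field K₁] [Algebra K K₁]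
    [FiniteDimensional K K₁] : ¬ IsWeakSolution (V.comap (algebraMap L Ω)) K L K₁ := by
  intro h
  have : Algebra.IsAlgebraic K K₁ := Algebra.IsAlgebraic.of_finite K K₁
  let j : K₁ →ₐ[K] Ω := IsAlgClosed.lift
  have hinv : ∀ x : Ω, V.valuation (g x) = V.valuation x := valuation_map V hV g
  have hcomap : V.comap ((((g : Ω →ₐ[K] Ω).comp L.val : L →ₐ[K] Ω) : L →+* Ω)) = V.comap (algebraMap L Ω) := by
    ext x
    rw [ValuationSubring.mem_comap, ValuationSubring.mem_comap, ← V.valuation_le_one_iff, ← V.valuation_le_one_iff]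
    show V.valuation (g (x : Ω)) ≤ 1 ↔ V.valuation (x : Ω) ≤ 1
    rw [hinv]
  have h1 := K727.Dict.exists_valuation_eq h L.val j V
    ((RamBasic.dominates_comp_subtype_iff (L.val : L →+* Ω) _ V).2 rfl)
  have h2 := K727.Dict.exists_valuation_eq h ((g : Ω →ₐ[K] Ω).comp L.val) j V
    ((RamBasic.dominates_comp_subtype_iff _ _ V).2 hcomap)
  haveI : FiniteDimensional K j.fieldRange :=
    Module.Finite.of_surjective (j.codRestrict j.fieldRange.toSubalgebra (fun x => ⟨x, rfl⟩)).toLinearMap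
      (by rintro ⟨_, x, rfl⟩; exact ⟨x, rfl⟩)
  have hLle : L ≤ L.val.fieldRange := fun x hx => ⟨⟨x, hx⟩, rfl⟩
  have hmem : ∀ x ∈ L, g x ∈ ((g : Ω →ₐ[K] Ω).comp L.val).fieldRange := fun x hx => ⟨⟨x, hx⟩, rfl⟩
  refine core V hV p hAk hgen t ht ϖ hϖ α hα T hT0 hT g hg y hy (L.val.fieldRange ⊔ j.fieldRange)
    (((g : Ω →ₐ[K] Ω).comp L.val).fieldRange ⊔ j.fieldRange) j.fieldRange
    (hNL.trans (hLle.trans le_sup_left)) ?_ (le_sup_left (b := j.fieldRange) (hLle hyL))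
    (le_sup_left (b := j.fieldRange) (hmem y hyL)) le_sup_right le_sup_right ?_ ?_
  · refine (N_le_map g T).trans (le_trans ?_ le_sup_left)
    rintro _ ⟨x, hx, rfl⟩
    exact hmem x (hNL hx)
  · intro x hx
    obtain ⟨z, hz⟩ := h1 x hx
    exact ⟨j z, ⟨z, rfl⟩, hz⟩
  · intro x hx
    obtain ⟨z, hz⟩ := h2 x hx
    exact ⟨j z, ⟨z, rfl⟩, hz⟩

include hV in
/-- `N ⊔ K(y)` is discretely valued. -/
theorem exists_unif_L (hAk : ∀ a : A, ∃ c : k, a - algebraMap k A c ∈ maximalIdeal A)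
    (t : k) (ht : ∀ c : k, c ^ p ≠ t) (ϖ : A) (hϖ : Irreducible ϖ) (α : Ω) (hα : α ^ p ^ 2 = α)
    (T : ℕ → Ω) (hT0 : T 0 = algebraMap k Ω t + algebraMap A Ω ϖ * α) (hT : ∀ m, T (m + 1) ^ p = T m) (y : Ω) :
    ∃ w, Unif V (N k K T ⊔ K⟮y⟯ : IntermediateField K Ω) w := by
  have hk : ∀ c : k, algebraMap k Ω c ∈ V := k_mem K V hV
  obtain ⟨τ, hτ0, hτ⟩ := exists_roots (Ω := Ω) hp.out.pos (algebraMap k Ω t)
  obtain ⟨P, hP0, hP⟩ := exists_roots (Ω := Ω) hp.out.pos (algebraMap A Ω ϖ)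
  have hP1 : V.valuation (P 0) < 1 := by
    rw [hP0]
    exact hV.2 _ ((mem_maximalIdeal _).2 hϖ.not_isUnit)
  have hT0τ : T 0 = τ 0 + P 0 * α := by rw [hT0, hτ0, hP0]
  have hTτ := val_sub_lt V hV p hα hT0τ hT hτ hP hP1
  have hval := N_value (k := k) (K := K) V p (ϖ := algebraMap A K ϖ) (value_K V hV hϖ)
    (exists_const_K V hV hAk) hk ht hτ0 hτ hTτ hT (sep_of_pow k p hα)
    (by rw [hT0, hτ0, ← IsScalarTower.algebraMap_apply A K Ω])
  let ϖN : N k K T := algebraMap K _ (algebraMap A K ϖ)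
  have hN : Unif V (N k K T) ϖN := by
    obtain ⟨h1, h2, -⟩ := unif_K (A := A) (K := K) V hV hϖ
    exact ⟨(_root_.map_ne_zero _).2 h1, h2, fun x hx => hval x x.2 (fun h => hx (Subtype.ext h))⟩
  have hfin : FiniteDimensional (N k K T) ((N k K T)⟮y⟯) :=
    adjoin.finiteDimensional (Algebra.IsIntegral.isIntegral (R := K) y).tower_top
  obtain ⟨w, e, hw, -⟩ := exists_unif V (P := N k K T) (F := (N k K T)⟮y⟯) hN
  have h1 : ((N k K T)⟮y⟯).restrictScalars K = N k K T ⊔ K⟮y⟯ := by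
    rw [restrictScalars_adjoin_eq_sup]
  rw [← h1]
  exact ⟨w, hw⟩

/-- `N` as one adjunction -/
theorem N_eq (T : ℕ → Ω) : N k K T = adjoin K ((separableClosure k Ω : Set Ω) ∪ Set.range T) := by
  refine le_antisymm (iSup_le fun m => adjoin_le_iff.2 ?_) (adjoin_le_iff.2 ?_)
  · rintro z (hz | hz)
    · exact subset_adjoin _ _ (Or.inl hz)
    · rw [Set.mem_singleton_iff] at hz
      exact subset_adjoin _ _ (Or.inr ⟨m, hz.symm⟩)
  · rintro z (hz | ⟨m, rfl⟩)
    · exact E_le_N 0 (sep_mem_E hz)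
    · exact T_mem_N T m

end main

end Groth.Agent.Refuted.K728.NoWeak

namespace Groth.Agent.Refuted.K728.NoWeak

open IsLocalRing EtRam IntermediateField Groth.Agent.Refuted.K845 Groth.Agent.Refuted.K775.PRank
  Groth.Agent.Refuted.K728.Tower Groth.Agent.Etalg

section type

variable {k A K Ω : Type} [Field k] [CommRing A] [IsDomain A] [IsDiscreteValuationRing A] [HenselianLocalRing A]
  [Field K] [Algebra A K] [IsFractionRing A K] [Field Ω] [Algebra K Ω] [Algebra A Ω] [IsScalarTower A K Ω]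
  [Algebra.IsAlgebraic K Ω] [Algebra k A] [Algebra k K] [IsScalarTower k A K]
  [Algebra k Ω] [IsScalarTower k K Ω] (V : ValuationSubring Ω) (hV : Dominates A (algebraMap A Ω) V)
  (p : ℕ) [hp : Fact p.Prime] [CharP Ω p] [IsAlgClosed Ω]

include hV in
/-- **Half (II)** in the form of `K727.Stmt`. -/
theorem halfII [IsAdicComplete (maximalIdeal A) A]
    (hAk : ∀ a : A, ∃ c : k, a - algebraMap k A c ∈ maximalIdeal A)
    (hgen : PRk p k) (t : k) (ht : ∀ c : k, c ^ p ≠ t) (ϖ : A) (hϖ : Irreducible ϖ) (α : Ω) (hα : α ^ p ^ 2 = α)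
    (T : ℕ → Ω) (hT0 : T 0 = algebraMap k Ω t + algebraMap A Ω ϖ * α) (hT : ∀ m, T (m + 1) ^ p = T m)
    (g : Ω ≃ₐ[K] Ω) (hg : g α ≠ α) (y : Ω) (hy : y ^ p - y = T 0 / algebraMap A Ω ϖ ^ p)
    (L : IntermediateField K Ω) (hNL : N k K T ≤ L) (hyL : y ∈ L)
    [IsDiscreteValuationRing (V.comap (algebraMap L Ω))] : S7162.HalfII (V.comap (algebraMap L Ω)) K L :=
  fun K₁ _ _ _ => not_isWeakSolution V hV p hAk hgen t ht ϖ hϖ α hα T hT0 hT g hg y hy L hNL hyL K₁

end type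

end Groth.Agent.Refuted.K728.NoWeak
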