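import Mathlib.RingTheory.Valuation.ValuationSubring
import Mathlib.RingTheory.Valuation.Integral
import Mathlib.Algebra.BigOperators.Field
import Mathlib.FieldTheory.SeparableClosure
import Mathlib.FieldTheory.PurelyInseparable.PerfectClosure
import Mathlib.FieldTheory.Perfect

/-!
# The value group and the residue field of the tower `K(k^sep)(T^(1/p^m))`

`k` is a field of constants in `K`, `Ω` an algebraically closed algebraic extension of `K`, `V` a valuation subring of
`Ω` such that the residue field of `K` is that of `k` and the value group of `K` is generated by `ϖ`.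
-/

set_option autoImplicit false

namespace Groth.Agent.Refuted.K728.Tower

open IntermediateField Polynomial

variable {k K Ω : Type*} [Field k] [Field K] [Field Ω] [Algebra k K] [Algebra K Ω] [Algebra k Ω] [IsScalarTower k K Ω]
  (V : ValuationSubring Ω)

section basic

variable (hk : ∀ c : k, algebraMap k Ω c ∈ V)
include hk

theorem mem_of_isIntegral {x : Ω} (hx : IsIntegral k x) : x ∈ V := by
  let f : k →+* V := RingHom.codRestrict (algebraMap k Ω) V hk
  have h : IsIntegral V x := by
    obtain ⟨P, hP, h⟩ := hx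
    refine ⟨P.map f, hP.map f, ?_⟩
    rw [eval₂_map]
    exact h
  have h2 : IsIntegral V.valuation.integer x := by
    obtain ⟨P, hP, h⟩ := h
    let g : V →+* V.valuation.integer := RingHom.codRestrict V.subtype V.valuation.integer (fun a => V.valuation_le_one a)
    refine ⟨P.map g, hP.map g, ?_⟩
    rw [eval₂_map]
    exact h
  exact (V.valuation_le_one_iff x).1 ((Valuation.integer.integers V.valuation).mem_of_integral h2)

theorem val_eq_one {x : Ω} (hx : IsIntegral k x) (h0 : x ≠ 0) : V.valuation x = 1 := by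
  refine le_antisymm ((V.valuation_le_one_iff x).2 (mem_of_isIntegral V hk hx)) ?_
  have h1 : V.valuation x⁻¹ ≤ 1 := (V.valuation_le_one_iff _).2
    (mem_of_isIntegral V hk (hx.isAlgebraic.inv).isIntegral)
  rw [map_inv₀] at h1
  exact (inv_le_one₀ (zero_lt_iff.2 ((Valuation.ne_zero_iff _).2 h0))).1 h1

theorem val_eq_one_of_sub {x u : Ω} (hx : IsIntegral k x) (h0 : x ≠ 0) (h : V.valuation (u - x) < 1) :
    V.valuation u = 1 := by
  have h1 := val_eq_one V hk hx h0
  have : u = (u - x) + x := by ring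
  rw [this, Valuation.map_add_eq_of_lt_right _ (by rw [h1]; exact h), h1]

end basic

/-- A `k`-subspace all of whose nonzero elements are units spans a `K`-subspace with the values of `K`. -/
theorem span_value {ϖ : K}
    (hval : ∀ x : K, x ≠ 0 → ∃ n : ℤ, V.valuation (algebraMap K Ω x) = V.valuation (algebraMap K Ω ϖ) ^ n)
    (hres : ∀ x : K, V.valuation (algebraMap K Ω x) ≤ 1 → ∃ c : k, V.valuation (algebraMap K Ω x - algebraMap k Ω c) < 1)
    (U : Submodule k Ω) (hU : ∀ u ∈ U, u ≠ 0 → V.valuation u = 1) (x : Ω)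
    (hx : x ∈ Submodule.span K (U : Set Ω)) (hx0 : x ≠ 0) :
    ∃ n : ℤ, V.valuation x = V.valuation (algebraMap K Ω ϖ) ^ n := by
  classical
  obtain ⟨S, hS, hxS⟩ := Submodule.mem_span_finite_of_mem_span hx
  let U' : Submodule k Ω := Submodule.span k (S : Set Ω)
  have hU' : U' ≤ U := Submodule.span_le.2 hS
  have : Module.Finite k U' := Module.Finite.span_finset k S
  let b := Module.finBasis k U'
  have hxb : x ∈ Submodule.span K (Set.range fun i => (b i : Ω)) := by
    refine Submodule.span_le.2 (fun s hs => ?_) hxS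
    have hs' : s ∈ U' := Submodule.subset_span hs
    have e : s = ∑ i, algebraMap k K (b.repr ⟨s, hs'⟩ i) • (b i : Ω) := by
      have h1 := congrArg (fun y : U' => (y : Ω)) (b.sum_repr ⟨s, hs'⟩)
      simp only [Submodule.coe_sum, Submodule.coe_smul] at h1
      refine h1.symm.trans (Finset.sum_congr rfl fun i _ => ?_)
      rw [algebraMap_smul]
    rw [SetLike.mem_coe, e]
    exact Submodule.sum_mem _ fun i _ => Submodule.smul_mem _ _ (Submodule.subset_span ⟨i, rfl⟩)
  obtain ⟨a, ha⟩ := (Submodule.mem_span_range_iff_exists_fun K).1 hxb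
  have hne : (Finset.univ : Finset (Fin (Module.finrank k U'))).Nonempty := by
    rw [Finset.nonempty_iff_ne_empty]
    intro h
    rw [h, Finset.sum_empty] at ha
    exact hx0 ha.symm
  obtain ⟨j, -, hj⟩ := Finset.exists_max_image Finset.univ (fun i => V.valuation (algebraMap K Ω (a i))) hne
  have haj : a j ≠ 0 := by
    intro h
    apply hx0
    rw [← ha]
    refine Finset.sum_eq_zero fun i _ => ?_
    have h1 := hj i (Finset.mem_univ _)
    rw [h, map_zero, map_zero, le_zero_iff, Valuation.zero_iff, map_eq_zero] at h1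
    rw [h1, zero_smul]
  have hc : ∀ i, ∃ c : k, V.valuation (algebraMap K Ω (a i / a j) - algebraMap k Ω c) < 1 ∧ (i = j → c = 1) := by
    intro i
    by_cases hij : i = j
    · refine ⟨1, ?_, fun _ => rfl⟩
      rw [hij, div_self haj, map_one, map_one, sub_self, map_zero]
      exact zero_lt_one
    · obtain ⟨c, hc⟩ := hres (a i / a j) (by
        rw [map_div₀, map_div₀]
        exact div_le_one_of_le₀ (hj i (Finset.mem_univ _)) zero_le)
      exact ⟨c, hc, fun h => absurd h hij⟩
  choose c hc hcj using hc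
  have hu : (∑ i, c i • b i : U') ≠ 0 := by
    intro h
    have := Fintype.linearIndependent_iff.1 b.linearIndependent c h j
    rw [hcj j rfl] at this
    exact one_ne_zero this
  have hu1 : V.valuation (∑ i, c i • (b i : Ω)) = 1 := by
    have e : (∑ i, c i • (b i : Ω)) = ((∑ i, c i • b i : U') : Ω) := by simp
    rw [e]
    exact hU _ (hU' (SetLike.coe_mem _)) (fun h => hu (Subtype.ext h))
  have hb1 : ∀ i, V.valuation (b i : Ω) = 1 := fun i => hU _ (hU' (SetLike.coe_mem _))
    (fun h => b.ne_zero i (Subtype.ext h))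
  have hx1 : V.valuation (x / algebraMap K Ω (a j)) = 1 := by
    have e : x / algebraMap K Ω (a j) = (∑ i, (algebraMap K Ω (a i / a j) - algebraMap k Ω (c i)) * (b i : Ω))
        + ∑ i, c i • (b i : Ω) := by
      rw [← Finset.sum_add_distrib, ← ha, Finset.sum_div]
      refine Finset.sum_congr rfl fun i _ => ?_
      rw [Algebra.smul_def, Algebra.smul_def, map_div₀]
      ring
    rw [e, Valuation.map_add_eq_of_lt_right, hu1]
    rw [hu1]
    refine Valuation.map_sum_lt _ one_ne_zero fun i _ => ?_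
    rw [map_mul, hb1, mul_one]
    exact hc i
  obtain ⟨n, hn⟩ := hval (a j) haj
  refine ⟨n, ?_⟩
  rw [← hn]
  rw [map_div₀, div_eq_one_iff_eq] at hx1
  · exact hx1
  · rw [Valuation.ne_zero_iff, _root_.map_ne_zero]
    exact haj

section indep

variable (p : ℕ) [hp : Fact p.Prime] [CharP Ω p] {t : k} {τ : ℕ → Ω}

theorem tower_pow (hτ : ∀ m, τ (m + 1) ^ p = τ m) (r m : ℕ) : τ (r + m) ^ p ^ m = τ r := by
  induction m with
  | zero => simp
  | succ m ih => rw [pow_succ', pow_mul, ← add_assoc, hτ, ih]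

theorem expChar_of {F : Type*} [Field F] (f : F →+* Ω) : ExpChar F p :=
  haveI : ExpChar Ω p := ExpChar.prime hp.out
  RingHom.expChar f f.injective p

variable (k) in
theorem isSeparable_mem {x : Ω} (hx : IsSeparable k x) {n : ℕ} (hn : x ^ p ^ n ∈ (algebraMap k Ω).range) :
    x ∈ (algebraMap k Ω).range := by
  haveI : ExpChar k p := expChar_of p (algebraMap k Ω)
  have h1 : (minpoly k x).natSepDegree = 1 := (minpoly.natSepDegree_eq_one_iff_pow_mem p).2 ⟨n, hn⟩
  have h2 := Polynomial.Separable.natSepDegree_eq_natDegree hx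
  rw [h1] at h2
  exact minpoly.natDegree_eq_one_iff.1 h2.symm

theorem tau_notMem (ht : ∀ c : k, c ^ p ≠ t) (h0 : τ 0 = algebraMap k Ω t) (hτ : ∀ m, τ (m + 1) ^ p = τ m) :
    τ 1 ∉ separableClosure k Ω := by
  intro h
  have h1 : τ 1 ^ p ^ 1 ∈ (algebraMap k Ω).range := by
    rw [pow_one, hτ 0, h0]
    exact ⟨t, rfl⟩
  obtain ⟨c, hc⟩ := isSeparable_mem k p (mem_separableClosure_iff.1 h) h1
  apply ht c
  apply (algebraMap k Ω).injective
  rw [map_pow, hc, hτ 0, h0]

/-- the powers of `τ m` are independent over the separable closure -/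
theorem indep (ht : ∀ c : k, c ^ p ≠ t) (h0 : τ 0 = algebraMap k Ω t) (hτ : ∀ m, τ (m + 1) ^ p = τ m) (m : ℕ)
    (s : ℕ → Ω) (hs : ∀ j, s j ∈ separableClosure k Ω) (h : ∑ j ∈ Finset.range (p ^ m), s j * τ m ^ j = 0) (j : ℕ)
    (hj : j < p ^ m) : s j = 0 := by
  set S := separableClosure k Ω with hS
  haveI : ExpChar S p := expChar_of p (algebraMap S Ω)
  have hmem : τ m ^ p ^ m ∈ (algebraMap S Ω).range := by
    have := tower_pow p hτ 0 m
    rw [zero_add] at this
    rw [this, h0]
    exact ⟨⟨algebraMap k Ω t, S.algebraMap_mem t⟩, rfl⟩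
  have h1 : (minpoly S (τ m)).natSepDegree = 1 := (minpoly.natSepDegree_eq_one_iff_pow_mem p).2 ⟨m, hmem⟩
  obtain ⟨n, y, hy⟩ := (minpoly.natSepDegree_eq_one_iff_eq_X_pow_sub_C p).1 h1
  have hn : m ≤ n := by
    by_contra hlt
    rw [not_le] at hlt
    apply tau_notMem p ht h0 hτ
    have h2 : τ m ^ p ^ n = (y : Ω) := by
      have := minpoly.aeval S (τ m)
      rw [hy, map_sub, map_pow, aeval_X, aeval_C, sub_eq_zero] at this
      exact this
    obtain ⟨r, rfl⟩ := Nat.exists_eq_add_of_le (Nat.succ_le_of_lt hlt)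
    have h3 : τ (n.succ + r) ^ p ^ n = τ (1 + r) := by
      have e : n.succ + r = (1 + r) + n := by omega
      rw [e]
      exact tower_pow p hτ (1 + r) n
    rw [h3] at h2
    rw [← tower_pow p hτ 1 r, h2]
    exact pow_mem y.2 _
  have hp0 : 0 < p := hp.out.pos
  let f : S[X] := ∑ i ∈ Finset.range (p ^ m), C (⟨s i, hs i⟩ : S) * X ^ i
  have hf : f = 0 := by
    by_contra hne
    have h4 := minpoly.degree_le_of_ne_zero S (τ m) hne (by
      rw [map_sum, ← h]
      refine Finset.sum_congr rfl fun i _ => ?_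
      rw [map_mul, map_pow, aeval_X, aeval_C]
      rfl)
    rw [hy, degree_X_pow_sub_C (pow_pos hp0 _)] at h4
    have h5 : f.degree < ((p ^ m : ℕ) : WithBot ℕ) := by
      refine (degree_sum_le _ _).trans_lt ?_
      rw [Finset.sup_lt_iff (WithBot.bot_lt_coe _)]
      intro i hi
      exact (degree_C_mul_X_pow_le i _).trans_lt (WithBot.coe_lt_coe.2 (Finset.mem_range.1 hi))
    have h6 := h4.trans_lt h5
    have h7 : p ^ n < p ^ m := by exact_mod_cast h6
    exact absurd h7 (not_lt.2 (Nat.pow_le_pow_right hp0 hn))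
  have h8 : f.coeff j = ⟨s j, hs j⟩ := by
    rw [finsetSum_coeff, Finset.sum_eq_single j]
    · rw [coeff_C_mul, coeff_X_pow_self, mul_one]
    · intro i _ hij
      rw [coeff_C_mul, coeff_X_pow, if_neg (Ne.symm hij), mul_zero]
    · intro hj'
      exact absurd (Finset.mem_range.2 hj) hj'
  rw [hf, coeff_zero] at h8
  exact (congrArg Subtype.val h8).symm

end indep

section tower

theorem val_pow_sub_lt {a b : Ω} (ha : V.valuation a ≤ 1) (hb : V.valuation b ≤ 1) (h : V.valuation (a - b) < 1) (j : ℕ) :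
    V.valuation (a ^ j - b ^ j) < 1 := by
  induction j with
  | zero =>
    rw [pow_zero, pow_zero, sub_self, map_zero]
    exact zero_lt_one
  | succ j ih =>
    have e : a ^ (j + 1) - b ^ (j + 1) = a ^ j * (a - b) + (a ^ j - b ^ j) * b := by ring
    rw [e]
    refine Valuation.map_add_lt _ ?_ ?_
    · rw [map_mul, map_pow]
      exact (mul_le_mul' (pow_le_one₀ zero_le ha) le_rfl).trans_lt ((one_mul _).trans_lt h)
    · rw [map_mul]
      exact (mul_le_mul' le_rfl hb).trans_lt ((mul_one _).trans_lt ih)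

variable (k) in
/-- the elements `∑ s j * T ^ j`, `j < q`, with `s j` separable over `k` -/
def U (T : Ω) (q : ℕ) : Submodule k Ω where
  carrier := {u | ∃ s : ℕ → Ω, (∀ j, s j ∈ separableClosure k Ω) ∧ u = ∑ j ∈ Finset.range q, s j * T ^ j}
  add_mem' := by
    rintro _ _ ⟨s, hs, rfl⟩ ⟨s', hs', rfl⟩
    refine ⟨fun j => s j + s' j, fun j => add_mem (hs j) (hs' j), ?_⟩
    rw [← Finset.sum_add_distrib]
    exact Finset.sum_congr rfl fun j _ => by ring
  zero_mem' := ⟨fun _ => 0, fun _ => zero_mem _, by simp⟩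
  smul_mem' := by
    rintro c _ ⟨s, hs, rfl⟩
    refine ⟨fun j => algebraMap k Ω c * s j, fun j => mul_mem (IntermediateField.algebraMap_mem _ c) (hs j), ?_⟩
    rw [Algebra.smul_def, Finset.mul_sum]
    exact Finset.sum_congr rfl fun j _ => by ring

theorem mul_mem_U {T : Ω} {q : ℕ} {a u : Ω} (ha : a ∈ separableClosure k Ω) (hu : u ∈ U k T q) : a * u ∈ U k T q := by
  obtain ⟨s, hs, rfl⟩ := hu
  refine ⟨fun j => a * s j, fun j => mul_mem ha (hs j), ?_⟩
  rw [Finset.mul_sum]
  exact Finset.sum_congr rfl fun j _ => by ring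

theorem mono_mem_U {T : Ω} {q : ℕ} {a : Ω} (ha : a ∈ separableClosure k Ω) {j : ℕ} (hj : j < q) :
    a * T ^ j ∈ U k T q := by
  refine ⟨fun i => if i = j then a else 0, fun i => ?_, ?_⟩
  · by_cases h : i = j
    · simp only [h, if_true]
      exact ha
    · simp only [h, if_false]
      exact zero_mem _
  · rw [Finset.sum_eq_single j]
    · simp
    · intro i _ hij
      simp [hij]
    · intro h
      exact absurd (Finset.mem_range.2 hj) h

variable (k K) in
/-- the field `K(k^sep, T)` -/
def E (T : Ω) : IntermediateField K Ω := adjoin K ((separableClosure k Ω : Set Ω) ∪ {T})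

theorem sep_mem_E {T a : Ω} (ha : a ∈ separableClosure k Ω) : a ∈ E k K T :=
  subset_adjoin _ _ (Or.inl ha)

theorem mem_E (T : Ω) : T ∈ E k K T := subset_adjoin _ _ (Or.inr rfl)

/-- `K(k^sep, T)` is spanned by `U k T q` if `T ^ q = a + ϖ * b`. -/
theorem E_le_span [Algebra.IsAlgebraic K Ω] {T a b : Ω} {ϖ : K} {q : ℕ} (hq : 0 < q)
    (hT : T ^ q = a + algebraMap K Ω ϖ * b) (ha : a ∈ separableClosure k Ω) (hb : b ∈ separableClosure k Ω)
    {x : Ω} (hx : x ∈ E k K T) : x ∈ Submodule.span K (U k T q : Set Ω) := by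
  set W := Submodule.span K (U k T q : Set Ω) with hW
  have hx' : x ∈ Algebra.adjoin K ((separableClosure k Ω : Set Ω) ∪ {T}) := by
    rw [← adjoin_toSubalgebra]
    exact hx
  clear hx
  have key : ∀ y ∈ W, x * y ∈ W := by
    induction hx' using Algebra.adjoin_induction with
    | mem z hz =>
      have hle : W ≤ W.comap (LinearMap.mulLeft K z) := by
        refine Submodule.span_le.2 fun u hu => ?_
        rw [SetLike.mem_coe, Submodule.mem_comap, LinearMap.mulLeft_apply]
        rcases hz with hz | hz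
        · exact Submodule.subset_span (mul_mem_U hz hu)
        · rw [Set.mem_singleton_iff] at hz
          subst hz
          obtain ⟨s, hs, rfl⟩ := hu
          rw [Finset.mul_sum]
          refine Submodule.sum_mem _ fun j hj => ?_
          rw [Finset.mem_range] at hj
          have e : z * (s j * z ^ j) = s j * z ^ (j + 1) := by ring
          rw [e]
          rcases Nat.lt_or_ge (j + 1) q with h | h
          · exact Submodule.subset_span (mono_mem_U (hs j) h)
          · have hq' : j + 1 = q := by omega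
            rw [hq', hT]
            have e2 : s j * (a + algebraMap K Ω ϖ * b) = (s j * a) * z ^ 0 + ϖ • ((s j * b) * z ^ 0) := by
              rw [Algebra.smul_def]
              ring
            rw [e2]
            exact add_mem (Submodule.subset_span (mono_mem_U (mul_mem (hs j) ha) hq))
              (Submodule.smul_mem _ _ (Submodule.subset_span (mono_mem_U (mul_mem (hs j) hb) hq)))
      exact fun y hy => hle hy
    | algebraMap r =>
      intro y hy
      rw [← Algebra.smul_def]
      exact Submodule.smul_mem _ _ hy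
    | add u v _ _ hu hv =>
      intro y hy
      rw [add_mul]
      exact add_mem (hu y hy) (hv y hy)
    | mul u v _ _ hu hv =>
      intro y hy
      rw [mul_assoc]
      exact hu _ (hv y hy)
  have h1 : (1 : Ω) ∈ W := by
    have := mono_mem_U (T := T) (one_mem (separableClosure k Ω)) hq
    rw [pow_zero, mul_one] at this
    exact Submodule.subset_span this
  have := key 1 h1
  rwa [mul_one] at this

variable (p : ℕ) [hp : Fact p.Prime] [CharP Ω p] {t : k} {τ T : ℕ → Ω}

theorem tau_isIntegral (h0 : τ 0 = algebraMap k Ω t) (hτ : ∀ m, τ (m + 1) ^ p = τ m) (m : ℕ) : IsIntegral k (τ m) := by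
  have h := tower_pow p hτ 0 m
  rw [zero_add, h0] at h
  refine IsIntegral.of_pow (pow_pos hp.out.pos m) ?_
  rw [h]
  exact isIntegral_algebraMap

theorem val_U (hk : ∀ c : k, algebraMap k Ω c ∈ V) (ht : ∀ c : k, c ^ p ≠ t) (h0 : τ 0 = algebraMap k Ω t)
    (hτ : ∀ m, τ (m + 1) ^ p = τ m) (hT : ∀ m, V.valuation (T m - τ m) < 1) (m : ℕ) (u : Ω)
    (hu : u ∈ U k (T m) (p ^ m)) (hu0 : u ≠ 0) : V.valuation u = 1 := by
  obtain ⟨s, hs, rfl⟩ := hu
  have hsi : ∀ j, IsIntegral k (s j) := fun j => (mem_separableClosure_iff.1 (hs j)).isIntegral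
  have hτi : ∀ m, IsIntegral k (τ m) := tau_isIntegral p h0 hτ
  have hτ1 : ∀ m, V.valuation (τ m) ≤ 1 := fun m => (V.valuation_le_one_iff _).2 (mem_of_isIntegral V hk (hτi m))
  have hT1 : ∀ m, V.valuation (T m) ≤ 1 := by
    intro m
    have e : T m = (T m - τ m) + τ m := by ring
    rw [e]
    exact (V.valuation.map_add _ _).trans (max_le (hT m).le (hτ1 m))
  have hint : IsIntegral k (∑ j ∈ Finset.range (p ^ m), s j * τ m ^ j) :=
    IsIntegral.sum _ fun j _ => (hsi j).mul ((hτi m).pow j)
  refine val_eq_one_of_sub V hk hint ?_ ?_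
  · intro h
    apply hu0
    refine Finset.sum_eq_zero fun j hj => ?_
    rw [indep p ht h0 hτ m s hs h j (Finset.mem_range.1 hj), zero_mul]
  · rw [← Finset.sum_sub_distrib]
    refine Valuation.map_sum_lt _ one_ne_zero fun j _ => ?_
    rw [← mul_sub, map_mul]
    exact (mul_le_mul' ((V.valuation_le_one_iff _).2 (mem_of_isIntegral V hk (hsi j))) le_rfl).trans_lt
      ((one_mul _).trans_lt (val_pow_sub_lt V (hT1 m) (hτ1 m) (hT m) j))

variable (k K) in
/-- the field `K(k^sep, T^(1/p^∞))` -/
def N (T : ℕ → Ω) : IntermediateField K Ω := ⨆ m, E k K (T m)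

theorem E_mono (hTp : ∀ m, T (m + 1) ^ p = T m) : Monotone fun m => E k K (T m) := by
  refine monotone_nat_of_le_succ fun m => ?_
  refine adjoin_le_iff.2 ?_
  rintro x (hx | hx)
  · exact sep_mem_E hx
  · rw [Set.mem_singleton_iff] at hx
    rw [hx, ← hTp m]
    exact pow_mem (mem_E _) _

theorem mem_N_iff (hTp : ∀ m, T (m + 1) ^ p = T m) {x : Ω} : x ∈ N k K T ↔ ∃ m, x ∈ E k K (T m) := by
  rw [N, ← SetLike.mem_coe, coe_iSup_of_directed (E_mono p hTp).directed_le]
  simp

theorem E_le_N (m : ℕ) : E k K (T m) ≤ N k K T := le_iSup (fun m => E k K (T m)) m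

/-- **values of `N`** -/
theorem N_value [Algebra.IsAlgebraic K Ω] {ϖ : K}
    (hval : ∀ x : K, x ≠ 0 → ∃ n : ℤ, V.valuation (algebraMap K Ω x) = V.valuation (algebraMap K Ω ϖ) ^ n)
    (hres : ∀ x : K, V.valuation (algebraMap K Ω x) ≤ 1 → ∃ c : k, V.valuation (algebraMap K Ω x - algebraMap k Ω c) < 1)
    (hk : ∀ c : k, algebraMap k Ω c ∈ V) (ht : ∀ c : k, c ^ p ≠ t) (h0 : τ 0 = algebraMap k Ω t)
    (hτ : ∀ m, τ (m + 1) ^ p = τ m) (hT : ∀ m, V.valuation (T m - τ m) < 1) (hTp : ∀ m, T (m + 1) ^ p = T m)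
    {a : Ω} (ha : a ∈ separableClosure k Ω) (hT0 : T 0 = τ 0 + algebraMap K Ω ϖ * a)
    (x : Ω) (hx : x ∈ N k K T) (hx0 : x ≠ 0) : ∃ n : ℤ, V.valuation x = V.valuation (algebraMap K Ω ϖ) ^ n := by
  obtain ⟨m, hm⟩ := (mem_N_iff p hTp).1 hx
  have e : T m ^ p ^ m = τ 0 + algebraMap K Ω ϖ * a := by
    have := tower_pow p hTp 0 m
    rw [zero_add] at this
    rw [this, hT0]
  have ht' : τ 0 ∈ separableClosure k Ω := by
    rw [h0]
    exact IntermediateField.algebraMap_mem _ _
  exact span_value V hval hres (U k (T m) (p ^ m)) (val_U V p hk ht h0 hτ hT m) x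
    (E_le_span (pow_pos hp.out.pos m) e ht' ha hm) hx0

end tower

end Groth.Agent.Refuted.K728.Tower
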